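import Cfsg.Agent.FpfSym3.Simple
import Cfsg.Agent.S0033

/-!
A finite group of order prime to three with a fixed-point-free `S₃` is solvable.
-/

set_option autoImplicit false
set_option linter.unusedSectionVars false
set_option linter.style.haveILetI false
set_option maxHeartbeats 1000000

namespace Cfsg.Agent.FpfSym3

universe u

namespace Pair

variable {G : Type u} [Group G] [Finite G]

theorem fitting_top (P : Pair G) (hinv : ∀ N : Subgroup G, N.Normal → (∀ x ∈ N, P.s x ∈ N) →
    (∀ x ∈ N, P.t x ∈ N) → N = ⊥ ∨ N = ⊤) {N : Subgroup G} (hN : N.Normal) (hNne : N ≠ ⊥)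
    (hnil : Group.IsNilpotent N) : Group.IsSolvable G := by
  rcases hinv (Cfsg.fittingSubgroup G) inferInstance (char_mem _) (char_mem _) with h | h
  · exact absurd (le_bot_iff.1 (h ▸ Cores.le_fittingSubgroup hN hnil)) hNne
  · haveI := Cores.fittingSubgroup_eq_top_iff.1 h
    infer_instance

theorem map_normal (f : MulAut G) (N : Subgroup G) [N.Normal] :
    (N.map (f : G →* G)).Normal :=
  Subgroup.Normal.map inferInstance _ f.surjective

theorem solvable (P : Pair G) (h3 : ¬ 3 ∣ Nat.card G) : Group.IsSolvable G := by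
  suffices h : ∀ (n : ℕ) (X : Type u) [Group X] [Finite X] (P : Pair X),
      Nat.card X = n → ¬ 3 ∣ Nat.card X → Group.IsSolvable X from h _ G P rfl h3
  intro n
  induction n using Nat.strong_induction_on with
  | _ n ih => ?_
  intro X _ _ P hn h3
  by_contra hns
  have IH : ∀ H : Subgroup X, H ≠ ⊤ → (∀ x ∈ H, P.s x ∈ H) → (∀ x ∈ H, P.t x ∈ H) →
      Group.IsSolvable H := by
    intro H hH hs ht
    have hlt : Nat.card H < n := hn ▸ lt_of_le_of_ne H.card_le_card_group
      (fun h => hH (Subgroup.eq_top_of_card_eq H h))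
    exact ih _ hlt H (P.restrict H hs ht) rfl fun h => h3 (h.trans H.card_subgroup_dvd_card)
  have hinv : ∀ N : Subgroup X, N.Normal → (∀ x ∈ N, P.s x ∈ N) →
      (∀ x ∈ N, P.t x ∈ N) → N = ⊥ ∨ N = ⊤ := by
    intro N hN hs ht
    by_contra h
    push Not at h
    haveI := IH N h.2 hs ht
    have hlt : Nat.card (X ⧸ N) < n := by
      rw [← hn, Subgroup.card_eq_card_quotient_mul_card_subgroup N]
      exact lt_mul_of_one_lt_right Nat.card_pos
        (Finite.one_lt_card_iff_nontrivial.2 ((Subgroup.nontrivial_iff_ne_bot N).2 h.1))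
    haveI := ih _ hlt (X ⧸ N) (P.quot h3 N hs ht) rfl
      fun h' => h3 (h'.trans (Subgroup.card_quotient_dvd_card N))
    exact hns (Group.isSolvable_of_ker_le_range N.subtype (QuotientGroup.mk' N) (by simp))
  have hnt : Nontrivial X := by
    by_contra h
    haveI := not_nontrivial_iff_subsingleton.1 h
    exact hns inferInstance
  obtain ⟨N, ⟨hN, hNne⟩, hmin⟩ := Set.Finite.exists_minimal
    (Set.toFinite {N : Subgroup X | N.Normal ∧ N ≠ ⊥}) ⟨⊤, inferInstance, top_ne_bot⟩
  haveI := hN
  have hmin' : ∀ L : Subgroup X, L.Normal → L ≤ N → L = ⊥ ∨ L = N := by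
    intro L hL hLN
    by_cases hb : L = ⊥
    · exact Or.inl hb
    · exact Or.inr (le_antisymm hLN (hmin ⟨hL, hb⟩ hLN))
  by_cases hNtop : N = ⊤
  · refine P.simple_false h3 IH (fun L hL => ?_) hns
    rcases hmin' L hL (hNtop ▸ le_top) with h | h
    · exact Or.inl h
    · exact Or.inr (h.trans hNtop)
  have hzN : (Subgroup.center N).map N.subtype ≠ N := by
    intro h
    refine hns (fitting_top P hinv hN hNne ?_)
    have hc : Subgroup.center N = ⊤ :=
      Subgroup.map_injective N.subtype_injective (h.trans (by rw [← MonoidHom.range_eq_map,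
        Subgroup.range_subtype]))
    haveI : IsMulCommutative N := ⟨⟨fun a b =>
      Subgroup.mem_center_iff.1 (hc ▸ Subgroup.mem_top b) a⟩⟩
    letI : CommGroup N := { (inferInstance : Group N) with mul_comm := fun a b => IsMulCommutative.is_comm.comm a b }
    infer_instance
  have hcb : ∀ z ∈ N, (∀ y ∈ N, y * z = z * y) → z = 1 := by
    intro z hz hy
    have hzc : (⟨z, hz⟩ : N) ∈ Subgroup.center N :=
      Subgroup.mem_center_iff.2 fun y => Subtype.ext (hy y y.2)
    rcases hmin' ((Subgroup.center N).map N.subtype) (Cores.normal_map_subtype_of_characteristic _) (Subgroup.map_subtype_le _)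
      with h | h
    · exact Subgroup.mem_bot.1 (h ▸ (⟨⟨z, hz⟩, hzc, rfl⟩ : z ∈ (Subgroup.center N).map N.subtype))
    · exact absurd h hzN
  have hdis : ∀ f : MulAut X, ¬ (∀ x ∈ N, f x ∈ N) → Disjoint N (N.map (f : X →* X)) := by
    intro f hf
    haveI := map_normal f N
    rcases hmin' (N ⊓ N.map (f : X →* X)) inferInstance inf_le_left with h | h
    · exact disjoint_iff.2 h
    · exfalso
      have : N.map (f : X →* X) = N := (Subgroup.eq_of_le_of_card_ge (inf_eq_left.1 h)
        (Subgroup.card_map_of_injective f.injective).le).symm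
      exact hf fun x hx => this ▸ ⟨x, hx, rfl⟩
  by_cases hsN : ∀ x ∈ N, P.s x ∈ N
  · by_cases htN : ∀ x ∈ N, P.t x ∈ N
    · rcases hinv N hN hsN htN with h | h
      exacts [hNne h, hNtop h]
    haveI := map_normal P.t N
    have hd := hdis P.t htN
    have hfix : ∀ x ∈ N, P.s x = x → x = 1 := by
      intro x hx hsx
      have hc : Commute x (P.t x) :=
        Subgroup.commute_of_normal_of_disjoint _ _ hN inferInstance hd _ _ hx ⟨x, hx, rfl⟩
      have h1 : x * P.t x = 1 := P.fpf _ (by
        rw [map_mul, hsx, P.mem_cen.1 (P.t_mem_cen (P.mem_cen.2 hsx))])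
        (by rw [map_mul, P.t2, hc.eq])
      refine Subgroup.mem_bot.1 (hd.le_bot (Subgroup.mem_inf.2 ⟨hx, ?_⟩))
      rw [eq_inv_of_mul_eq_one_left h1]
      exact inv_mem ⟨x, hx, rfl⟩
    set Q : MulAut N :=
      { toFun := fun x => ⟨P.s (x : X), hsN x x.2⟩
        invFun := fun x => ⟨P.s (P.s (x : X)), hsN _ (hsN x x.2)⟩
        left_inv := fun x => Subtype.ext (P.s3 x)
        right_inv := fun x => Subtype.ext (P.s3 x)
        map_mul' := fun a b => Subtype.ext (map_mul P.s a.1 b.1) } with hQ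
    haveI : Fact (Nat.Prime 3) := ⟨Nat.prime_three⟩
    have hQ1 : Q ≠ 1 := fun h => hNne ((Subgroup.eq_bot_iff_forall _).2 fun x hx =>
      hfix x hx (congrArg Subtype.val (DFunLike.congr_fun h ⟨x, hx⟩)))
    have hord : orderOf Q = 3 :=
      orderOf_eq_prime (MulEquiv.ext fun x => Subtype.ext (P.s3 x)) hQ1
    exact hns (fitting_top P hinv hN hNne (S0033.result Q
      (fun x hx => Subtype.ext (hfix x x.2 (congrArg Subtype.val hx))) 3 Nat.prime_three hord))
  · set N1 := N.map (P.s : X →* X) with hN1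
    set N2 := N1.map (P.s : X →* X) with hN2
    haveI h1n : N1.Normal := map_normal P.s N
    haveI h2n : N2.Normal := map_normal P.s N1
    have hd1 : Disjoint N N1 := hdis P.s hsN
    have hd2 : Disjoint N N2 := by
      have := hdis (P.s.trans P.s) fun h => hsN fun x hx => by
        have h' := h _ (h x hx)
        change P.s (P.s (P.s (P.s x))) ∈ N at h'
        rwa [P.s3] at h'
      rwa [hN2, hN1, Subgroup.map_map]
    have hd12 : Disjoint N1 N2 := by
      rw [disjoint_iff, hN2, ← Subgroup.map_inf _ _ _ P.s.injective, hd1.eq_bot, Subgroup.map_bot]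
    have c01 : ∀ x ∈ N, ∀ y ∈ N, Commute x (P.s y) := fun x hx y hy =>
      Subgroup.commute_of_normal_of_disjoint _ _ hN h1n hd1 _ _ hx ⟨y, hy, rfl⟩
    have c02 : ∀ x ∈ N, ∀ y ∈ N, Commute x (P.s (P.s y)) := fun x hx y hy =>
      Subgroup.commute_of_normal_of_disjoint _ _ hN h2n hd2 _ _ hx ⟨_, ⟨y, hy, rfl⟩, rfl⟩
    have c12 : ∀ x ∈ N, ∀ y ∈ N, Commute (P.s x) (P.s (P.s y)) := fun x hx y hy =>
      (c01 x hx y hy).map P.s
    let c : X → X := fun x => x * P.s x * P.s (P.s x)
    have hc : ∀ x ∈ N, c x ∈ P.cen := fun x hx => by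
      show P.s (x * P.s x * P.s (P.s x)) = x * P.s x * P.s (P.s x)
      rw [map_mul, map_mul, P.s3]
      exact (((c01 x hx x hx).mul_right (c02 x hx x hx)).eq.symm).trans (mul_assoc _ _ _).symm
    have hcm : ∀ x ∈ N, ∀ y ∈ N, c (x * y) = c x * c y := fun x hx y hy => by
      show x * y * P.s (x * y) * P.s (P.s (x * y)) =
        x * P.s x * P.s (P.s x) * (y * P.s y * P.s (P.s y))
      simp only [map_mul]
      calc x * y * (P.s x * P.s y) * (P.s (P.s x) * P.s (P.s y))
          = x * (y * P.s x) * (P.s y * P.s (P.s x)) * P.s (P.s y) := by group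
        _ = x * P.s x * (y * P.s (P.s x)) * P.s y * P.s (P.s y) := by
            rw [(c01 y hy x hx).eq, (c12 y hy x hx).eq]; group
        _ = x * P.s x * P.s (P.s x) * (y * P.s y * P.s (P.s y)) := by
            rw [(c02 y hy x hx).eq]; group
    refine hzN (le_antisymm (Subgroup.map_subtype_le _) fun x hx => ?_)
    refine ⟨⟨x, hx⟩, Subgroup.mem_center_iff.2 fun y => Subtype.ext ?_, rfl⟩
    show (y : X) * x = x * y
    set z := (y : X) * x * (y : X)⁻¹ * x⁻¹ with hz
    have hzm : z ∈ N := mul_mem (mul_mem (mul_mem y.2 hx) (inv_mem y.2)) (inv_mem hx)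
    have hcz : c z = 1 := by
      have e1 : c ((y : X) * x) = c (x * y) := by
        rw [hcm _ y.2 _ hx, hcm _ hx _ y.2]
        exact P.cen_comm (hc _ y.2) (hc _ hx)
      have e2 : c ((y : X) * x) = c z * c (x * y) := by
        rw [← hcm z hzm _ (mul_mem hx y.2), hz]
        congr 1
        group
      rw [e1] at e2
      exact right_eq_mul.1 e2
    have hz1 : z = 1 := hcb z hzm fun w hw => by
      have hw' : Commute w (P.s z * P.s (P.s z))⁻¹ :=
        ((c01 w hw z hzm).mul_right (c02 w hw z hzm)).inv_right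
      have : z = (P.s z * P.s (P.s z))⁻¹ := eq_inv_of_mul_eq_one_left (by rw [← mul_assoc]; exact hcz)
      rw [← this] at hw'
      exact hw'.eq
    rw [hz, mul_inv_eq_one, mul_inv_eq_iff_eq_mul] at hz1
    exact hz1

/-- The full conclusion. -/
theorem main (P : Pair G) (h3 : ¬ 3 ∣ Nat.card G) :
    Group.IsSolvable G ∧ ¬ 2 ∣ (Cfsg.pPrimePCore 2 G).index ∧
      Cfsg.pPrimePCore 2 G ⊔ P.cen = ⊤ := by
  haveI := P.solvable h3
  have h := P.structure_of_solvable h3
  refine ⟨inferInstance, fun hd => ?_, h⟩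
  haveI : (Cfsg.pPrimePCore 2 G).Normal := Subgroup.normal_comap _
  let f : P.cen →* G ⧸ Cfsg.pPrimePCore 2 G :=
    (QuotientGroup.mk' _).comp P.cen.subtype
  have hf : Function.Surjective f := by
    intro q
    obtain ⟨g, rfl⟩ := QuotientGroup.mk'_surjective _ q
    have hg : g ∈ Cfsg.pPrimePCore 2 G ⊔ P.cen := by rw [h]; trivial
    obtain ⟨k, hk, c, hc, rfl⟩ := Subgroup.mem_sup_of_normal_left.1 hg
    refine ⟨⟨c, hc⟩, ?_⟩
    show QuotientGroup.mk' _ c = _
    rw [map_mul, show QuotientGroup.mk' _ k = 1 from (QuotientGroup.eq_one_iff k).2 hk, one_mul]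
  rw [Subgroup.index_eq_card] at hd
  exact (P.cen_odd.of_dvd_nat (Subgroup.card_dvd_of_surjective f hf)).not_two_dvd_nat hd

end Pair

end Cfsg.Agent.FpfSym3
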