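import Cfsg.Agent.FpfSym3.Fusion
import Cfsg.Agent.S0205
import Cfsg.Agent.S0208
import Cfsg.Agent.S0215
import Cfsg.Agent.SignalizerTwo.Main

/-!
No nonabelian simple group of order prime to three has a fixed-point-free `S₃` all of whose proper
invariant subgroups are solvable.
-/

set_option autoImplicit false
set_option linter.unusedSectionVars false
set_option linter.style.haveILetI false
set_option maxHeartbeats 1000000

namespace Cfsg.Agent.FpfSym3

open Cfsg.Agent.Fusion (cj mem_cj)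
open Cfsg.Agent.CF (omZ)
open scoped Pointwise

universe u

namespace Pair

variable {G : Type u} [Group G] [Finite G]

theorem mem_theta {p : ℕ} {a x : G} :
    x ∈ Cfsg.centralizerPPrimeCore p a ↔
      ∃ h : x ∈ Subgroup.centralizer ({a} : Set G), (⟨x, h⟩ : Subgroup.centralizer ({a} : Set G)) ∈
        Cfsg.pPrimeCore p (Subgroup.centralizer ({a} : Set G)) :=
  ⟨fun ⟨y, hy, he⟩ => he ▸ ⟨y.2, hy⟩, fun ⟨_, hx⟩ => ⟨_, hx, rfl⟩⟩

theorem theta_le {a : G} : Cfsg.centralizerPPrimeCore 2 a ≤ Subgroup.centralizer ({a} : Set G) :=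
  Subgroup.map_subtype_le _

theorem theta_card [Fact (Nat.Prime 2)] (a : G) :
    (Nat.card (Cfsg.centralizerPPrimeCore 2 a)).Coprime 2 :=
  Nat.Coprime.coprime_dvd_left (Subgroup.card_map_dvd _ _)
    (Cores.pPrimeCore_coprime (p := 2) (G := Subgroup.centralizer ({a} : Set G)))

theorem theta_conj [Fact (Nat.Prime 2)] (g a x : G) (hx : x ∈ Cfsg.centralizerPPrimeCore 2 a) :
    g * x * g⁻¹ ∈ Cfsg.centralizerPPrimeCore 2 (g * a * g⁻¹) := by
  set C := Subgroup.centralizer ({g * a * g⁻¹} : Set G)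
  set T := ((Cfsg.centralizerPPrimeCore 2 a).map (MulAut.conj g).toMonoidHom).subgroupOf C
  have hC : ∀ c ∈ C, g⁻¹ * c * g ∈ Subgroup.centralizer ({a} : Set G) := fun c hc => by
    rw [Subgroup.mem_centralizer_singleton_iff] at hc ⊢
    calc g⁻¹ * c * g * a = g⁻¹ * (c * (g * a * g⁻¹)) * g := by group
      _ = a * (g⁻¹ * c * g) := by rw [hc]; group
  have hTn : T.Normal := by
    refine ⟨fun t ht c => ?_⟩
    obtain ⟨y, hy, hyt⟩ := ht
    obtain ⟨hy1, hy2⟩ := mem_theta.1 hy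
    refine ⟨(g⁻¹ * c * g) * y * (g⁻¹ * c * g)⁻¹, mem_theta.2 ⟨mul_mem (mul_mem (hC c c.2) hy1)
      (inv_mem (hC c c.2)), (Cores.pPrimeCore_normal_inst (p := 2) _).conj_mem _ hy2
        ⟨_, hC c c.2⟩⟩, ?_⟩
    have hyt' : g * y * g⁻¹ = t := hyt
    show g * ((g⁻¹ * c * g) * y * (g⁻¹ * c * g)⁻¹) * g⁻¹ = c * t * (c : G)⁻¹
    rw [← hyt']
    group
  have hTc : (Nat.card T).Coprime 2 :=
    (theta_card a).coprime_dvd_left ((Subgroup.card_comap_dvd_of_injective _ C.subtype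
      C.subtype_injective).trans (Subgroup.card_map_dvd _ _))
  have hmem : g * x * g⁻¹ ∈ C := by
    have h := Subgroup.mem_centralizer_singleton_iff.1 (theta_le hx)
    rw [Subgroup.mem_centralizer_singleton_iff]
    calc g * x * g⁻¹ * (g * a * g⁻¹) = g * (x * a) * g⁻¹ := by group
      _ = g * a * g⁻¹ * (g * x * g⁻¹) := by rw [h]; group
  exact mem_theta.2 ⟨hmem, Cores.le_pPrimeCore hTn hTc ⟨x, hx, rfl⟩⟩

/-- Every element of the normalizer of `S` acts on `Ω₁Z(S)` as an element fixed by `s`. -/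
theorem exists_cen_action (P : Pair G) (h3 : ¬ 3 ∣ Nat.card G) (S : Sylow 2 G)
    (hs : ∀ x ∈ S, P.s x ∈ S) (ht : ∀ x ∈ S, P.t x ∈ S)
    (hsol : Group.IsSolvable (Subgroup.normalizer ((S : Subgroup G) : Set G))) {n : G}
    (hn : n ∈ Subgroup.normalizer ((S : Subgroup G) : Set G)) :
    ∃ c ∈ P.cen, ∀ u ∈ omZ 2 (S : Subgroup G), n * u * n⁻¹ = c * u * c⁻¹ := by
  haveI : Fact (Nat.Prime 2) := ⟨Nat.prime_two⟩
  set N := Subgroup.normalizer ((S : Subgroup G) : Set G) with hN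
  set Q := P.restrict N (normalizer_mem P.s hs) (normalizer_mem P.t ht)
  haveI := hsol
  have hstr := Q.structure_of_solvable (fun h => h3 (h.trans N.card_subgroup_dvd_card))
  set O := Cfsg.pPrimeCore 2 N with hO
  haveI : (Cfsg.pPrimePCore 2 N).Normal := Subgroup.normal_comap _
  have hx : (⟨n, hn⟩ : N) ∈ Cfsg.pPrimePCore 2 N ⊔ Q.cen := by rw [hstr]; trivial
  obtain ⟨c, hc, k, hk, hck⟩ := Subgroup.mem_sup_of_normal_right.1
    (show (⟨n, hn⟩ : N) ∈ Q.cen ⊔ Cfsg.pPrimePCore 2 N by rwa [sup_comm] at hx)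
  refine ⟨c, congrArg Subtype.val (hc : Q.s c = c),
    fun u hu => ?_⟩
  let SM : Sylow 2 N := S.subtype Subgroup.le_normalizer
  obtain ⟨y, hy, he⟩ := (Cores.pCore_le_sylow
    (SM.mapSurjective (QuotientGroup.mk'_surjective O))) hk
  have ho : y⁻¹ * k ∈ O := QuotientGroup.eq.1 he
  have huS : u ∈ (S : Subgroup G) := CF.omZ_le 2 _ hu
  set um : N := ⟨u, Subgroup.le_normalizer huS⟩
  have hbot : (SM : Subgroup N) ⊓ O = ⊥ := by
    obtain ⟨j, hj⟩ := SM.2.exists_card_eq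
    exact disjoint_iff.1 (Subgroup.disjoint_of_coprime_natCard
      (hj ▸ (Cores.pPrimeCore_coprime (p := 2) (G := N)).symm.pow_left j))
  set o := y⁻¹ * k
  have hou : o * um * o⁻¹ = um := by
    have h1 : o * um * o⁻¹ * um⁻¹ ∈ (SM : Subgroup N) ⊓ O := by
      refine Subgroup.mem_inf.2 ⟨?_, ?_⟩
      · show (o : G) * u * (o : G)⁻¹ * u⁻¹ ∈ (S : Subgroup G)
        exact mul_mem ((Subgroup.mem_normalizer_iff.1 o.2 u).1 huS) (inv_mem huS)
      · rw [show o * um * o⁻¹ * um⁻¹ = o * (um * o⁻¹ * um⁻¹) by group]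
        exact mul_mem ho ((Cores.pPrimeCore_normal_inst (p := 2) N).conj_mem _ (inv_mem ho) um)
    rw [hbot, Subgroup.mem_bot, mul_inv_eq_one] at h1
    exact h1
  have hyu : (y : G) * u * (y : G)⁻¹ = u := by
    have := Subgroup.mem_centralizer_iff.1 ((CF.omZ_le_inf 2 _) hu).2 (y : G) hy
    rw [this, mul_inv_cancel_right]
  have hou' : (o : G) * u * (o : G)⁻¹ = u := congrArg Subtype.val hou
  have hk' : (k : G) = y * o := by
    show (k : G) = (y : G) * ((y : G)⁻¹ * k)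
    rw [mul_inv_cancel_left]
  have hn' : n = (c : G) * k := congrArg Subtype.val hck.symm
  rw [hn', hk', show (c : G) * ((y : G) * o) * u * ((c : G) * ((y : G) * o))⁻¹ =
    c * (y * ((o : G) * u * (o : G)⁻¹) * (y : G)⁻¹) * (c : G)⁻¹ by group, hou', hyu]

theorem simple_false (P : Pair G) (h3 : ¬ 3 ∣ Nat.card G)
    (IH : ∀ H : Subgroup G, H ≠ ⊤ → (∀ x ∈ H, P.s x ∈ H) → (∀ x ∈ H, P.t x ∈ H) →
      Group.IsSolvable H)
    (hsimple : ∀ N : Subgroup G, N.Normal → N = ⊥ ∨ N = ⊤)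
    (hns : ¬ Group.IsSolvable G) : False := by
  haveI : Fact (Nat.Prime 2) := ⟨Nat.prime_two⟩
  have heven : 2 ∣ Nat.card G := by
    by_contra h
    exact hns (S0205.result (Nat.not_even_iff_odd.1 fun he => h he.two_dvd))
  obtain ⟨S, hSs, hSt⟩ := P.exists_sylow h3
  have hSne : (S : Subgroup G) ≠ ⊥ := S.ne_bot_of_dvd_card heven
  have hsubsol : ∀ H : Subgroup G, Group.IsSolvable H → H.Normal → H = ⊥ := by
    intro H hH hn
    rcases hsimple H hn with h | h
    · exact h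
    · subst h
      exact absurd (Group.isSolvable_of_surjective (f := (⊤ : Subgroup G).subtype)
        fun x => ⟨⟨x, trivial⟩, rfl⟩) hns
  set N := Subgroup.normalizer ((S : Subgroup G) : Set G) with hN
  have hNtop : N ≠ ⊤ := fun h => hSne (hsubsol _
    (haveI := S.2.isNilpotent; inferInstance) (Subgroup.normalizer_eq_top_iff.1 h))
  have hNsol := IH N hNtop (normalizer_mem P.s hSs) (normalizer_mem P.t hSt)
  have hcen : ∀ n ∈ N, ∃ c ∈ P.cen, ∀ u ∈ omZ 2 (S : Subgroup G), n * u * n⁻¹ = c * u * c⁻¹ :=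
    fun n hn => P.exists_cen_action h3 S hSs hSt hNsol hn
  set Ω := omZ 2 (S : Subgroup G) with hΩ
  have hΩf : ∀ f : MulAut G, (∀ x ∈ S, f x ∈ S) → ∀ u ∈ Ω, f u ∈ Ω := by
    intro f hf u hu
    have h := CF.omZ_map (p := 2) f.toMonoidHom (P := (S : Subgroup G))
      fun x _ hx => f.injective (hx.trans (map_one f).symm)
    rw [show (S : Subgroup G).map f.toMonoidHom = S from map_eq_of_mem hf] at h
    rw [hΩ, h]
    exact ⟨u, hu, rfl⟩
  have hNconj : ∀ n ∈ N, ∀ x ∈ S, n * x * n⁻¹ ∈ S := fun n hn x hx =>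
    (Subgroup.mem_normalizer_iff.1 hn x).1 hx
  -- a minimal invariant subgroup of `Ω₁Z(S)`
  let Inv : Subgroup G → Prop := fun U => U ≠ ⊥ ∧ U ≤ Ω ∧ (∀ u ∈ U, P.s u ∈ U) ∧
    ∀ n ∈ N, ∀ u ∈ U, n * u * n⁻¹ ∈ U
  obtain ⟨U, ⟨hUne, hUΩ, hUs, hUN⟩, hUmin⟩ : ∃ U, Inv U ∧ ∀ V, Inv V → V ≤ U → U ≤ V := by
    obtain ⟨U, hU, hmin⟩ := Set.Finite.exists_minimal (Set.toFinite {U | Inv U})
      ⟨Ω, CF.FocalOdd.omZ_ne_bot S.2 hSne, le_rfl, hΩf _ hSs,
        fun n hn u hu => hΩf (MulAut.conj n) (hNconj n hn) u hu⟩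
    exact ⟨U, hU, fun V hV hle => hmin hV hle⟩
  have hUS : U ≤ (S : Subgroup G) := hUΩ.trans (CF.omZ_le 2 _)
  have hU2 : ∀ u ∈ U, u ^ 2 = 1 := fun u hu => CF.pow_eq_one_of_mem_omZ u (hUΩ hu)
  have hUcen : ∀ u ∈ U, ∀ x ∈ (S : Subgroup G), x * u = u * x := fun u hu x hx =>
    Subgroup.mem_centralizer_iff.1 ((CF.omZ_le_inf 2 _) (hUΩ hu)).2 x hx
  have hUP : IsPGroup 2 U := S.2.to_le hUS
  have hord : ∀ u ∈ U, u ≠ 1 → orderOf u = 2 := fun u hu h1 =>
    orderOf_eq_prime (hU2 u hu) h1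
  have hfus : ∀ D : Subgroup G, D ≤ S → ∀ g : G, cj g D ≤ S →
      ∃ n ∈ N, ∀ d ∈ D, n * d * n⁻¹ = g * d * g⁻¹ :=
    P.controls h3 IH hsimple hns S hSne hSs hSt
  have hfus2 : ∀ a ∈ (S : Subgroup G), ∀ b ∈ (S : Subgroup G), ∀ g : G,
      g * a * g⁻¹ ∈ (S : Subgroup G) → g * b * g⁻¹ ∈ (S : Subgroup G) →
      ∃ n ∈ N, n * a * n⁻¹ = g * a * g⁻¹ ∧ n * b * n⁻¹ = g * b * g⁻¹ := by
    intro a ha b hb g hga hgb
    obtain ⟨n, hn, hd⟩ := hfus (Subgroup.closure {a, b})
      ((Subgroup.closure_le _).2 (by rintro _ (rfl | rfl) <;> assumption)) g (by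
        rw [cj, Subgroup.map_le_iff_le_comap, Subgroup.closure_le]
        rintro _ (rfl | rfl) <;> assumption)
    exact ⟨n, hn, hd a (Subgroup.subset_closure (Or.inl rfl)),
      hd b (Subgroup.subset_closure (Or.inr rfl))⟩
  -- strong closure
  have hclosed : ∀ u ∈ U, ∀ g : G, g * u * g⁻¹ ∈ (S : Subgroup G) → g * u * g⁻¹ ∈ U := by
    intro u hu g hg
    obtain ⟨n, hn, h1, -⟩ := hfus2 u (hUS hu) u (hUS hu) g hg hg
    exact h1 ▸ hUN n hn u hu
  -- semiregularity
  have hsemi : ∀ n ∈ N, ∀ a ∈ U, a ≠ 1 → n * a * n⁻¹ = a → ∀ u ∈ U, n * u * n⁻¹ = u := by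
    intro n hn a ha ha1 hna
    obtain ⟨c, hc, hcu⟩ := hcen n hn
    set V := U ⊓ Subgroup.centralizer ({c} : Set G)
    have hmem : ∀ u : G, u ∈ V ↔ u ∈ U ∧ c * u * c⁻¹ = u := fun u => by
      rw [Subgroup.mem_inf, Subgroup.mem_centralizer_singleton_iff, mul_inv_eq_iff_eq_mul,
        eq_comm]
    have hV : Inv V := by
      refine ⟨fun h => ha1 ?_, inf_le_left.trans hUΩ, fun u hu => ?_, fun m hm u hu => ?_⟩
      · rw [← Subgroup.mem_bot, ← h, hmem]
        exact ⟨ha, (hcu a (hUΩ ha)) ▸ hna⟩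
      · rw [hmem] at hu ⊢
        refine ⟨hUs u hu.1, ?_⟩
        have := congrArg P.s hu.2
        rwa [map_mul, map_mul, map_inv, P.mem_cen.1 hc] at this
      · rw [hmem] at hu ⊢
        refine ⟨hUN m hm u hu.1, ?_⟩
        obtain ⟨d, hd, hdu⟩ := hcen m hm
        rw [hdu u (hUΩ hu.1)]
        have h := P.cen_comm hc hd
        calc c * (d * u * d⁻¹) * c⁻¹ = c * d * u * (c * d)⁻¹ := by group
          _ = d * (c * u * c⁻¹) * d⁻¹ := by rw [h]; group
          _ = d * u * d⁻¹ := by rw [hu.2]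
    intro u hu
    rw [hcu u (hUΩ hu)]
    exact ((hmem u).1 (hUmin V hV inf_le_left hu)).2
  -- `a` and `s a` are not conjugate
  have hnot : ∀ a ∈ U, a ≠ 1 → ∀ n ∈ N, n * a * n⁻¹ ≠ P.s a := by
    intro a ha ha1 n hn hna
    obtain ⟨c, hc, hcu⟩ := hcen n hn
    rw [hcu a (hUΩ ha)] at hna
    have h2 : P.s (P.s a) = c * (c * a * c⁻¹) * c⁻¹ := by
      conv_lhs => rw [← hna, map_mul, map_mul, map_inv, P.mem_cen.1 hc, ← hna]
    have h3' : a = c * (c * (c * a * c⁻¹) * c⁻¹) * c⁻¹ := by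
      conv_lhs => rw [← P.s3 a, h2]
      simp only [map_mul, map_inv, P.mem_cen.1 hc]
      rw [← hna]
    have hc3 : c ^ 3 ∈ Subgroup.centralizer ({a} : Set G) := by
      rw [Subgroup.mem_centralizer_singleton_iff]
      conv_rhs => rw [h3']
      simp [pow_succ, mul_assoc]
    have hc1 : c ∈ Subgroup.centralizer ({a} : Set G) := by
      obtain ⟨k, hk⟩ := exists_pow_eq_self_of_coprime (x := c) (n := 3)
        ((Nat.Prime.coprime_iff_not_dvd Nat.prime_three).2 fun h =>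
          h3 (h.trans (orderOf_dvd_natCard c)))
      rw [← hk]
      exact pow_mem hc3 k
    rw [Subgroup.mem_centralizer_singleton_iff] at hc1
    rw [hc1, mul_inv_cancel_right] at hna
    exact ha1 (P.eq_one_of_mem_two hUP ha hna.symm)
  obtain ⟨a, ha, ha1⟩ : ∃ a ∈ U, a ≠ 1 := U.ne_bot_iff_exists_ne_one.1 hUne |>.elim
    fun x hx => ⟨x, x.2, fun h => hx (Subtype.ext h)⟩
  -- the rank is at least three
  have h8 : 8 ≤ Nat.card U := by
    by_contra hlt
    obtain ⟨j, hj⟩ := hUP.exists_card_eq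
    have hj2 : j ≤ 2 := by
      by_contra h
      exact hlt (hj ▸ (Nat.pow_le_pow_right two_pos (show 3 ≤ j by omega)))
    have hcard : (U : Set G).ncard ≤ 4 := by
      rw [← Nat.card_coe_set_eq]
      exact hj.le.trans (Nat.pow_le_pow_right two_pos hj2)
    have hsa : ∀ b ∈ U, b ≠ 1 → P.s b ≠ b := fun b hb hb1 h =>
      hb1 (P.eq_one_of_mem_two hUP hb h)
    have hs1 : ∀ b : G, b ≠ 1 → P.s b ≠ 1 := fun b hb h => hb (P.s.injective (h.trans (map_one _).symm))
    have d1 : P.s a ≠ a := hsa a ha ha1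
    have d2 : P.s (P.s a) ≠ P.s a := hsa _ (hUs a ha) (hs1 a ha1)
    have d3 : P.s (P.s a) ≠ a := fun h => d1 (by conv_lhs => rw [← h, P.s3])
    have hset : ({1, a, P.s a, P.s (P.s a)} : Set G) = U := by
      refine Set.eq_of_subset_of_ncard_le ?_ ?_ (Set.toFinite _)
      · rintro _ (rfl | rfl | rfl | rfl)
        exacts [U.one_mem, ha, hUs a ha, hUs _ (hUs a ha)]
      · refine hcard.trans (le_of_eq ?_)
        rw [Set.ncard_insert_of_notMem, Set.ncard_insert_of_notMem, Set.ncard_pair d2.symm]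
        · simp [d1.symm, d3.symm]
        · simp [Ne.symm ha1, Ne.symm (hs1 a ha1), Ne.symm (hs1 _ (hs1 a ha1))]
    have hiso : ∀ g : G, g * a * g⁻¹ ∈ S → g * a * g⁻¹ = a := by
      intro g hg
      obtain ⟨n, hn, h1, -⟩ := hfus2 a (hUS ha) a (hUS ha) g hg hg
      rw [← h1]
      have hm : n * a * n⁻¹ ∈ ({1, a, P.s a, P.s (P.s a)} : Set G) := hset ▸ hUN n hn a ha
      rcases hm with h | h | h | h
      · exact absurd (conj_eq_one_iff.1 h) ha1
      · exact h
      · exact absurd h (hnot a ha ha1 n hn)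
      · refine absurd ?_ (hnot _ (hUs _ (hUs a ha)) (hs1 _ (hs1 a ha1)) n⁻¹ (inv_mem hn))
        rw [P.s3, ← h]
        group
    obtain ⟨M, hMn, hModd, hM⟩ := S0215.result S a (hord a ha ha1) (hUS ha) hiso
    have hMb : M = ⊥ := hsubsol M (S0205.result hModd) hMn
    refine hns ?_
    have hac : a ∈ Subgroup.center G := Subgroup.mem_center_iff.2 fun g => by
      have := hM g
      rw [hMb, Subgroup.mem_bot, mul_inv_eq_one, mul_inv_eq_iff_eq_mul] at this
      exact this.symm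
    rcases hsimple (Subgroup.center G) inferInstance with h | h
    · exact absurd (Subgroup.mem_bot.1 (h ▸ hac)) ha1
    · exact Group.isSolvable_of_comm fun x y =>
        (Subgroup.mem_center_iff.1 (h ▸ Subgroup.mem_top x) y).symm
  -- centralizers of elements of `U`
  set θ := fun b : G => Cfsg.centralizerPPrimeCore 2 b with hθ
  have hdecomp : ∀ b ∈ U, b ≠ 1 → ∀ h ∈ Subgroup.centralizer ({b} : Set G),
      ∃ o ∈ θ b, ∃ c ∈ Subgroup.centralizer (U : Set G), h = o * c := by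
    intro b hb hb1 h hh
    set C := Subgroup.centralizer ({b} : Set G) with hC
    have hSC : (S : Subgroup G) ≤ C := fun x hx =>
      Subgroup.mem_centralizer_singleton_iff.2 (hUcen b hb x hx)
    let SC : Sylow 2 C := S.subtype hSC
    set O := Cfsg.pPrimeCore 2 C
    set UC := U.subgroupOf C
    have hcomm : ∀ e ∈ UC, ∀ x : C, e * x * e⁻¹ * x⁻¹ ∈ O := by
      intro e he x
      by_cases he1 : e = 1
      · subst he1; simp
      obtain ⟨M, hMn, hModd, hM⟩ := S0215.result SC e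
        (by rw [← Subgroup.orderOf_coe]; exact hord _ he fun h => he1 (Subtype.ext h))
        (hUS he) (fun y hy => by
          have hyb : (y : G) * b * (y : G)⁻¹ = b := by
            rw [Subgroup.mem_centralizer_singleton_iff.1 y.2, mul_inv_cancel_right]
          obtain ⟨n, hn, h1, h2⟩ := hfus2 b (hUS hb) (e : G) (hUS he) y
            (by rw [hyb]; exact hUS hb) hy
          refine Subtype.ext ?_
          show (y : G) * e * (y : G)⁻¹ = e
          rw [← h2]
          exact hsemi n hn b hb hb1 (h1.trans hyb) _ he)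
      exact Cores.le_pPrimeCore hMn (Nat.coprime_two_right.2 hModd) (hM x)
    haveI hL : (UC ⊔ O).Normal := by
      refine ⟨fun l hl x => ?_⟩
      obtain ⟨e, he, o, ho, rfl⟩ := Subgroup.mem_sup_of_normal_right.1 hl
      rw [show x * (e * o) * x⁻¹ = (e * (e⁻¹ * x * e * x⁻¹)) * (x * o * x⁻¹) by group]
      refine mul_mem (Subgroup.mul_mem_sup he ?_)
        (Subgroup.mem_sup_right ((Cores.pPrimeCore_normal_inst (p := 2) C).conj_mem o ho x))
      simpa using hcomm e⁻¹ (inv_mem he) x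
    have hUC2 : IsPGroup 2 UC := hUP.comap_of_injective _ C.subtype_injective
    have hidx : ¬ 2 ∣ (UC.subgroupOf (UC ⊔ O)).index := by
      have h1 := (UC.subgroupOf (UC ⊔ O)).card_mul_index
      rw [Nat.card_congr (Subgroup.subgroupOfEquivOfLe (le_sup_left : UC ≤ UC ⊔ O)).toEquiv] at h1
      have h2 : (UC.subgroupOf (UC ⊔ O)).index ∣ Nat.card O :=
        Nat.dvd_of_mul_dvd_mul_left Nat.card_pos (h1 ▸ Cores.card_sup_dvd_mul UC O)
      exact fun h => Cores.not_dvd_card_pPrimeCore (h.trans h2)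
    let T : Sylow 2 ↥(UC ⊔ O) :=
      (hUC2.comap_subtype (K := UC ⊔ O)).toSylow hidx
    have hfr := Sylow.normalizer_sup_eq_top T
    have hTU : (T : Subgroup ↥(UC ⊔ O)).map (UC ⊔ O).subtype = UC :=
      Subgroup.map_subgroupOf_eq_of_le le_sup_left
    rw [hTU] at hfr
    have hx : (⟨h, hh⟩ : C) ∈ Subgroup.normalizer (UC : Set C) ⊔ O := by
      have : Subgroup.normalizer (UC : Set C) ⊔ O = ⊤ := by
        rw [eq_top_iff, ← hfr]
        exact sup_le le_sup_left (sup_le_sup_right Subgroup.le_normalizer _)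
      rw [this]; trivial
    obtain ⟨o, ho, c, hc, hoc⟩ := Subgroup.mem_sup_of_normal_left.1
      (show (⟨h, hh⟩ : C) ∈ O ⊔ Subgroup.normalizer (UC : Set C) by rwa [sup_comm] at hx)
    refine ⟨o, ⟨o, ho, rfl⟩, c, Subgroup.mem_centralizer_iff.2 fun e he => ?_,
      congrArg Subtype.val hoc.symm⟩
    set em : C := ⟨e, hSC (hUS he)⟩
    have hbot : UC ⊓ O = ⊥ := by
      obtain ⟨j, hj⟩ := hUC2.exists_card_eq
      exact disjoint_iff.1 (Subgroup.disjoint_of_coprime_natCard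
        (hj ▸ (Cores.pPrimeCore_coprime (p := 2) (G := C)).symm.pow_left j))
    have h1 : em * c * em⁻¹ * c⁻¹ ∈ UC ⊓ O := by
      refine Subgroup.mem_inf.2 ⟨?_, hcomm em he c⟩
      rw [show em * c * em⁻¹ * c⁻¹ = em * (c * em⁻¹ * c⁻¹) by group]
      exact mul_mem (show em ∈ UC from he)
        ((Subgroup.mem_normalizer_iff.1 hc _).1 (inv_mem (show em ∈ UC from he)))
    rw [hbot, Subgroup.mem_bot, mul_inv_eq_one, mul_inv_eq_iff_eq_mul] at h1
    exact congrArg Subtype.val h1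
  have hUab : IsMulCommutative U := ⟨⟨fun x y => Subtype.ext (hUcen y y.2 x (hUS x.2))⟩⟩
  have hθconjU : ∀ b : G, ∀ c ∈ Subgroup.centralizer ({b} : Set G), ∀ x ∈ θ b,
      c * x * c⁻¹ ∈ θ b := by
    intro b c hc x hx
    have := theta_conj c b x hx
    rwa [Subgroup.mem_centralizer_singleton_iff.1 hc, mul_inv_cancel_right] at this
  have hCU : ∀ b ∈ U, Subgroup.centralizer (U : Set G) ≤ Subgroup.centralizer ({b} : Set G) :=
    fun b hb => Subgroup.centralizer_le (Set.singleton_subset_iff.2 hb)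
  have hUCb : ∀ b ∈ U, U ≤ Subgroup.centralizer ({b} : Set G) := fun b hb x hx =>
    Subgroup.mem_centralizer_singleton_iff.2 (hUcen b hb x (hUS hx))
  have hfunc : Cfsg.IsSolvableSignalizerFunctor 2 U θ := by
    refine ⟨⟨fun b _ _ => theta_le, fun b _ _ h => ?_, fun b hb _ e he x hx =>
      hθconjU b e (hUCb b hb he) x hx, fun b hb hb1 d hd hd1 => ?_⟩, fun b _ _ => ?_⟩
    · exact ((Nat.prime_two).coprime_iff_not_dvd.1 (theta_card b).symm) h
    · intro x hx
      obtain ⟨hxb, hxd⟩ := Subgroup.mem_inf.1 hx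
      set C := Subgroup.centralizer ({d} : Set G)
      set D := (θ b).subgroupOf C
      set O := Cfsg.pPrimeCore 2 C
      have hDn : (D ⊔ O).Normal := by
        refine ⟨fun l hl h => ?_⟩
        obtain ⟨o, ⟨o', ho', rfl⟩, c, hc, hoc⟩ := hdecomp d hd hd1 h h.2
        obtain ⟨e, he, o2, ho2, rfl⟩ := Subgroup.mem_sup_of_normal_right.1 hl
        set cm : C := ⟨c, hCU d hd hc⟩
        have hh : h = o' * cm := Subtype.ext hoc
        have hce : cm * e * cm⁻¹ ∈ D := hθconjU b c (hCU b hb hc) e he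
        rw [hh, show o' * cm * (e * o2) * (o' * cm)⁻¹ =
          o' * (cm * e * cm⁻¹) * (cm * o2 * cm⁻¹) * o'⁻¹ by group]
        refine mul_mem (mul_mem (mul_mem (Subgroup.mem_sup_right ho') (Subgroup.mem_sup_left hce))
          (Subgroup.mem_sup_right ?_)) (Subgroup.mem_sup_right (inv_mem ho'))
        exact (Cores.pPrimeCore_normal_inst (p := 2) C).conj_mem o2 ho2 cm
      have hcop : (Nat.card ↥(D ⊔ O)).Coprime 2 :=
        Nat.Coprime.coprime_dvd_left (Cores.card_sup_dvd_mul D O)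
          (Nat.Coprime.mul_left ((theta_card b).coprime_dvd_left
            (Subgroup.card_comap_dvd_of_injective _ C.subtype C.subtype_injective))
            (Cores.pPrimeCore_coprime (p := 2)))
      exact mem_theta.2 ⟨hxd, Cores.le_pPrimeCore hDn hcop
        (Subgroup.mem_sup_left (show (⟨x, hxd⟩ : C) ∈ D from hxb))⟩
    · exact S0205.result (Nat.coprime_two_right.1 (theta_card b))
  obtain ⟨⟨hWsol, -, hWU, -⟩, -⟩ :=
    SignalizerTwo.complete_iSup (A := U) ⟨hUab, hU2⟩ h8 hfunc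
  set W := ⨆ b : {b : G // b ∈ U ∧ b ≠ 1}, θ b with hW
  have hWle : ∀ b ∈ U, b ≠ 1 → θ b ≤ W := fun b hb hb1 =>
    le_iSup (fun b : {b : G // b ∈ U ∧ b ≠ 1} => θ b) ⟨b, hb, hb1⟩
  have hnW : ∀ g : G, (∀ u ∈ U, g * u * g⁻¹ ∈ U) → ∀ w ∈ W, g * w * g⁻¹ ∈ W := by
    intro g hg w hw
    have : W ≤ W.comap (MulAut.conj g).toMonoidHom := iSup_le fun b x hx =>
      hWle _ (hg b b.2.1) (fun h => b.2.2 (conj_eq_one_iff.1 h)) (theta_conj g b x hx)
    exact this hw
  set M := Subgroup.normalizer ((W ⊔ U : Subgroup G) : Set G) with hM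
  have hnorm : ∀ g : G, (∀ u ∈ U, g * u * g⁻¹ ∈ U) → g ∈ M := by
    intro g hg
    refine mem_normalizer_of_forall fun x hx => ?_
    have : W ⊔ U ≤ (W ⊔ U).comap (MulAut.conj g).toMonoidHom :=
      sup_le (fun w hw => Subgroup.mem_sup_left (hnW g hg w hw))
        fun u hu => Subgroup.mem_sup_right (hg u hu)
    exact this hx
  have hMN : N ≤ M := fun n hn => hnorm n (hUN n hn)
  have hMC : ∀ b ∈ U, b ≠ 1 → Subgroup.centralizer ({b} : Set G) ≤ M := by
    intro b hb hb1 h hh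
    obtain ⟨o, ho, c, hc, rfl⟩ := hdecomp b hb hb1 h hh
    refine mul_mem (Subgroup.le_normalizer (Subgroup.mem_sup_left (hWle b hb hb1 ho)))
      (hnorm c fun u hu => ?_)
    rw [← Subgroup.mem_centralizer_iff.1 hc u hu, mul_inv_cancel_right]
    exact hu
  have hMtop : M ≠ ⊤ := by
    intro h
    rcases hsimple (W ⊔ U) (Subgroup.normalizer_eq_top_iff.1 h) with h' | h'
    · exact hUne (le_bot_iff.1 (h' ▸ (le_sup_right : U ≤ W ⊔ U)))
    · have hWn : W.Normal := by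
        rw [← Subgroup.normalizer_eq_top_iff, eq_top_iff, ← h']
        exact sup_le Subgroup.le_normalizer fun e he =>
          mem_normalizer_of_forall fun w hw => hWU e he w hw
      rw [hsubsol W hWsol hWn, bot_sup_eq] at h'
      refine hns (Group.isSolvable_of_comm fun x y => ?_)
      exact congrArg Subtype.val
        (hUab.is_comm.comm ⟨x, h' ▸ Subgroup.mem_top x⟩ ⟨y, h' ▸ Subgroup.mem_top y⟩)
  -- each element of `U` fixes a single coset of `M`
  have key : ∀ b ∈ U, b ≠ 1 → ∀ g : G, g * b * g⁻¹ ∈ M → g ∈ M := by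
    intro b hb hb1 g hg
    have hSM : (S : Subgroup G) ≤ M := fun x hx => hMN (Subgroup.le_normalizer hx)
    have hp : IsPGroup 2 (Subgroup.zpowers (⟨_, hg⟩ : M)) := by
      refine IsPGroup.of_card (n := 1) ?_
      rw [Nat.card_zpowers, pow_one, ← Subgroup.orderOf_coe]
      exact (orderOf_injective (MulAut.conj g).toMonoidHom (MulAut.conj g).injective b).trans
        (hord b hb hb1)
    obtain ⟨T, hT⟩ := hp.exists_le_sylow
    obtain ⟨m, hm⟩ := MulAction.exists_smul_eq M T (S.subtype hSM)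
    have hmem : m * (⟨_, hg⟩ : M) * m⁻¹ ∈ ((S.subtype hSM : Sylow 2 M) : Subgroup M) := by
      rw [← hm, Sylow.coe_subgroup_smul]
      exact Subgroup.smul_mem_pointwise_smul _ (MulAut.conj m) _
        (hT (Subgroup.mem_zpowers _))
    have hmem' : ((m : G) * g) * b * ((m : G) * g)⁻¹ ∈ (S : Subgroup G) := by
      have : (m : G) * (g * b * g⁻¹) * (m : G)⁻¹ ∈ (S : Subgroup G) := hmem
      simpa [mul_assoc] using this
    obtain ⟨n, hn, h1, -⟩ := hfus2 b (hUS hb) b (hUS hb) _ hmem' hmem'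
    have hc : n⁻¹ * ((m : G) * g) ∈ Subgroup.centralizer ({b} : Set G) := by
      rw [Subgroup.mem_centralizer_singleton_iff]
      calc n⁻¹ * ((m : G) * g) * b
          = n⁻¹ * (((m : G) * g) * b * ((m : G) * g)⁻¹) * ((m : G) * g) := by group
        _ = b * (n⁻¹ * ((m : G) * g)) := by rw [← h1]; group
    have := mul_mem (mul_mem (inv_mem m.2) (hMN hn)) (hMC b hb hb1 hc)
    simpa [mul_assoc] using this
  -- two classes of elements of `U` give the contradiction
  obtain ⟨g, hg⟩ : ∃ g, g ∉ M := by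
    by_contra h
    push Not at h
    exact hMtop (eq_top_iff.2 fun x _ => h x)
  set a' := P.s a with ha'
  have ha'U : a' ∈ U := hUs a ha
  have ha'1 : a' ≠ 1 := fun h => ha1 (P.s.injective (h.trans (map_one _).symm))
  obtain ⟨y, hy⟩ : ∃ y, y = g * a * g⁻¹ := ⟨_, rfl⟩
  have hoa' : orderOf a' = 2 := hord _ ha'U ha'1
  have hoy : orderOf y = 2 := hy ▸
    (orderOf_injective (MulAut.conj g).toMonoidHom (MulAut.conj g).injective a).trans (hord a ha ha1)
  obtain ⟨d, hd⟩ : ∃ d, d = a' * y := ⟨_, rfl⟩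
  have heven' : 2 ∣ orderOf d := by
    by_contra h
    rw [hd] at h
    obtain ⟨e, -, he⟩ := S0208.result a' y hoa' hoy (Nat.not_even_iff_odd.1 fun h' => h h'.two_dvd)
    obtain ⟨n, hn, h1, -⟩ := hfus2 a (hUS ha) a (hUS ha) (e⁻¹ * g) (by
      rw [show e⁻¹ * g * a * (e⁻¹ * g)⁻¹ = e⁻¹ * y * e by rw [hy]; group, ← he,
        show e⁻¹ * (e * a' * e⁻¹) * e = a' by group]
      exact hUS ha'U) (by
      rw [show e⁻¹ * g * a * (e⁻¹ * g)⁻¹ = e⁻¹ * y * e by rw [hy]; group, ← he,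
        show e⁻¹ * (e * a' * e⁻¹) * e = a' by group]
      exact hUS ha'U)
    refine hnot a ha ha1 n hn (h1.trans ?_)
    rw [show e⁻¹ * g * a * (e⁻¹ * g)⁻¹ = e⁻¹ * y * e by rw [hy]; group, ← he, ← ha']
    group
  obtain ⟨k, hk⟩ := heven'
  have hkpos : 0 < k := by have := orderOf_pos d; omega
  set j := d ^ k with hj
  have hj1 : j ≠ 1 := pow_ne_one_of_lt_orderOf hkpos.ne' (by omega)
  have hj2 : j * j = 1 := by rw [hj, ← pow_add, ← two_mul, ← hk, pow_orderOf_eq_one]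
  have ha'2 : a' * a' = 1 := by rw [← sq]; exact hU2 _ ha'U
  have hy2 : y * y = 1 := by rw [← sq, ← hoy]; exact pow_orderOf_eq_one y
  have hflip : ∀ n : ℕ, a' * d ^ n * a' = (d ^ n)⁻¹ := by
    intro n
    have hi : d⁻¹ = y * a' := by
      refine inv_eq_of_mul_eq_one_right ?_
      rw [hd, mul_assoc, ← mul_assoc y, hy2, one_mul, ha'2]
    induction n with
    | zero => simp [ha'2]
    | succ n ih =>
      have h1 : a' * d * a' = d⁻¹ := by
        rw [hi, hd, ← mul_assoc a', ha'2, one_mul]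
      rw [pow_succ, show a' * (d ^ n * d) * a' = (a' * d ^ n * a') * (a'⁻¹ * d * a') by group, ih,
        inv_eq_of_mul_eq_one_right ha'2, h1, ← mul_inv_rev]
      group
  have hja : j * a' = a' * j := by
    have h := hflip k
    rw [← hj, inv_eq_of_mul_eq_one_right hj2] at h
    conv_lhs => rw [← h]
    rw [mul_assoc, ha'2, mul_one]
  have hjy : j * y = y * j := by
    have h1 : Commute j d := (Commute.refl d).pow_left k
    have h2 : Commute j a' := hja
    have h3' := h2.mul_right h1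
    rw [hd, ← mul_assoc, ha'2, one_mul] at h3'
    exact h3'
  obtain ⟨b, hbU, h, hz⟩ : ∃ b ∈ U, ∃ h : G, a' * j = h * b * h⁻¹ := by
    obtain ⟨m, hm⟩ := Nat.even_or_odd' k
    rcases hm with hm | hm
    · refine ⟨a', ha'U, (d ^ m)⁻¹, ?_⟩
      rw [hj, hm, two_mul, pow_add, inv_inv, ← mul_assoc, ← hflip m]
      simp [mul_assoc, ha'2]
    · refine ⟨a, ha, (d ^ m)⁻¹ * g, ?_⟩
      rw [show (d ^ m)⁻¹ * g * a * ((d ^ m)⁻¹ * g)⁻¹ = (d ^ m)⁻¹ * y * d ^ m by rw [hy]; group,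
        hj, hm, two_mul, ← hflip m, pow_succ', pow_add]
      have : a' * d = y := by rw [hd, ← mul_assoc, ha'2, one_mul]
      calc a' * (d * (d ^ m * d ^ m)) = (a' * d) * (d ^ m * d ^ m) := (mul_assoc _ _ _).symm
        _ = a' * d ^ m * a' * y * d ^ m := by
          rw [this]
          calc y * (d ^ m * d ^ m) = a' * (d * d ^ m) * d ^ m := by
                rw [← mul_assoc a', this]; group
            _ = a' * (d ^ m * d) * d ^ m := by rw [← pow_succ', ← pow_succ]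
            _ = a' * d ^ m * a' * y * d ^ m := by rw [hd]; group
  -- both lie in one conjugate of `S`
  set z := a' * j with hz'
  have hz2 : z ^ 2 = 1 := by
    rw [sq, hz', mul_assoc, ← mul_assoc j, hja, mul_assoc, hj2, mul_one, ha'2]
  have hcomm : Commute a' z := by
    show a' * (a' * j) = a' * j * a'
    rw [mul_assoc, hja]
  set E := Subgroup.closure ({a', z} : Set G)
  have hE : IsPGroup 2 E := by
    have hle : E ≤ Subgroup.centralizer ({a', z} : Set G) := by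
      refine (Subgroup.closure_le _).2 ?_
      rintro _ (rfl | rfl) <;> refine Subgroup.mem_centralizer_iff.2 ?_ <;>
        rintro _ (rfl | rfl)
      exacts [rfl, hcomm.eq.symm, hcomm.eq, rfl]
    intro x
    refine ⟨1, Subtype.ext ?_⟩
    show (x : G) ^ 2 ^ 1 = 1
    rw [pow_one]
    refine (Subgroup.closure_induction (p := fun x _ => x ^ 2 = 1 ∧ x ∈ E) ?_ ?_ ?_ ?_ x.2).1
    · rintro _ (rfl | rfl)
      exacts [⟨hU2 _ ha'U, Subgroup.subset_closure (Or.inl rfl)⟩,
        ⟨hz2, Subgroup.subset_closure (Or.inr rfl)⟩]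
    · exact ⟨one_pow _, one_mem _⟩
    · intro p q _ _ hp hq
      have hpq : Commute p q := by
        have := hle hp.2
        exact (Subgroup.mem_centralizer_iff.1 ((Subgroup.centralizer_closure ({a', z} : Set G)).symm ▸
          this : p ∈ Subgroup.centralizer (E : Set G)) q hq.2).symm
      exact ⟨by rw [hpq.mul_pow, hp.1, hq.1, one_mul], mul_mem hp.2 hq.2⟩
    · intro p _ hp
      exact ⟨by rw [inv_pow, hp.1, inv_one], inv_mem hp.2⟩
  obtain ⟨T, hT⟩ := hE.exists_le_sylow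
  obtain ⟨x, hx⟩ := MulAction.exists_smul_eq G T S
  have hxS : ∀ e ∈ E, x * e * x⁻¹ ∈ (S : Subgroup G) := fun e he => by
    rw [← hx, Sylow.coe_subgroup_smul]
    exact Subgroup.smul_mem_pointwise_smul _ (MulAut.conj x) _ (hT he)
  have hxa : x * a' * x⁻¹ ∈ U :=
    hclosed a' ha'U x (hxS _ (Subgroup.subset_closure (Or.inl rfl)))
  have hxz : x * z * x⁻¹ ∈ U := by
    have h1 := hxS _ (show z ∈ E from Subgroup.subset_closure (Or.inr rfl))
    rw [hz, show x * (h * b * h⁻¹) * x⁻¹ = x * h * b * (x * h)⁻¹ by group] at h1 ⊢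
    exact hclosed b hbU _ h1
  have hxM : x⁻¹ ∈ M := by
    refine key _ hxa (fun h' => ha'1 (conj_eq_one_iff.1 h')) x⁻¹ ?_
    rw [show x⁻¹ * (x * a' * x⁻¹) * x⁻¹⁻¹ = a' by group]
    exact hMN (Subgroup.le_normalizer (hUS ha'U))
  have hju : x * j * x⁻¹ ∈ U := by
    have := mul_mem hxa hxz
    rwa [show x * a' * x⁻¹ * (x * z * x⁻¹) = x * (a' * a') * j * x⁻¹ by rw [hz']; group,
      ha'2, mul_one] at this
  have hgx : g⁻¹ * x⁻¹ ∈ M := by
    refine key _ hju (fun h' => hj1 (conj_eq_one_iff.1 h')) _ ?_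
    rw [show g⁻¹ * x⁻¹ * (x * j * x⁻¹) * (g⁻¹ * x⁻¹)⁻¹ = g⁻¹ * j * g by group]
    refine hMC a ha ha1 ?_
    rw [Subgroup.mem_centralizer_singleton_iff]
    calc g⁻¹ * j * g * a = g⁻¹ * (j * y) * g := by rw [hy]; group
      _ = a * (g⁻¹ * j * g) := by rw [hjy, hy]; group
  have := mul_mem hgx (inv_mem hxM)
  rw [inv_inv, inv_mul_cancel_right] at this
  exact hg (inv_mem_iff.1 this)

end Pair

end Cfsg.Agent.FpfSym3
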